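import Cfsg.Agent.H809.Hall.Quat
import Cfsg.Agent.Lib.KleinGen

/-!
# S2223, odd cores for `E₆^ε(q)` (helper809)

`odd_comm_of` : the normal subgroups of odd prime power order are centralised by `t 0 * t 1`, from Lemma R.
-/

set_option autoImplicit false

namespace Cfsg.Agent.H809.Hall

open Subgroup Cfsg.Agent.Cit Cfsg.Agent.H125.Hall Module

universe u v w

/-- what we need from Lemma R -/
def LemR (k : Type u) [Field k] : Prop :=
  ∀ (V : Type v) [AddCommGroup V] [Module k V] [FiniteDimensional k V] (A : Type w) [Group A] [Finite A]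
    (ρ : A →* (V →ₗ[k] V)), Function.Injective ρ → ∀ r : ℕ, r.Prime → r ≠ 2 → ∀ R : Subgroup A, IsPGroup r R →
    (Nat.card R : k) ≠ 0 → ∀ t : A, orderOf t = 2 → (∀ c : A, c * t = t * c → ∀ x ∈ R, c * x * c⁻¹ ∈ R) →
    ∀ a : A, a * a = t → Reg ρ a → (¬ ∀ x ∈ R, t * x = x * t) →
    ∃ Z0 : Subgroup A, (∀ c : A, c * t = t * c → ∀ x ∈ Z0, c * x * c⁻¹ ∈ Z0) ∧ cm ρ Z0 ≠ ⊥ ∧
      3 * finrank k ↥(cm ρ Z0 ⊓ mv ρ t) = 2 * finrank k ↥(cm ρ Z0)

section res

variable {k : Type u} [Field k] {V : Type v} [AddCommGroup V] [Module k V] {A : Type w} [Group A]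
  (ρ : A →* (V →ₗ[k] V))

theorem mv_inv {s x : A} (hx : x * s = s * x) : ∀ v ∈ mv ρ s, ρ x v ∈ mv ρ s := by
  rintro _ ⟨v, rfl⟩
  refine ⟨ρ x v, ?_⟩
  rw [LinearMap.sub_apply, Module.End.one_apply, LinearMap.sub_apply, Module.End.one_apply, map_sub, ← rho_mul, ← rho_mul,
    hx]

theorem comm_of_mem {s : A} (x : centralizer ({s} : Set A)) : (x : A) * s = s * x :=
  (mem_centralizer_singleton_iff.1 x.2)

/-- the action of `C(s)` on `[V, s]` -/
def res (s : A) : ↥(centralizer ({s} : Set A)) →* (↥(mv ρ s) →ₗ[k] ↥(mv ρ s)) where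
  toFun x := (ρ x).restrict (mv_inv ρ (comm_of_mem x))
  map_one' := LinearMap.ext fun _ => Subtype.ext (rho_one ρ _)
  map_mul' _ _ := LinearMap.ext fun _ => Subtype.ext (rho_mul ρ _ _ _)

theorem res_apply {s : A} (x : centralizer ({s} : Set A)) (v : mv ρ s) : ((res ρ s x v : mv ρ s) : V) = ρ x v := rfl

end res

section main

variable {k : Type u} [Field k] [IsAlgClosed k] {V : Type v} [AddCommGroup V] [Module k V] [FiniteDimensional k V]
  {A : Type w} [Group A] [Finite A] {ρ : A →* (V →ₗ[k] V)} {S : Sylow 2 A} {t : Fin 4 → A} {Q K : Fin 4 → Subgroup A}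

omit [Finite A] in
theorem tQ (h : E6F S t Q K) (i j : Fin 4) {x : A} (hx : x ∈ Q j) : x * t i = t i * x := by
  by_cases hij : i = j
  · subst hij
    have h1 : x * t i * x⁻¹ ∈ Q i := mul_mem (mul_mem hx (h.tq i).mem) (inv_mem hx)
    have h2 : orderOf (x * t i * x⁻¹) = 2 := by
      have e : x * t i * x⁻¹ = MulAut.conj x (t i) := rfl
      rw [e, MulEquiv.orderOf_eq]
      exact (h.tq i).ord
    have h3 := (h.tq i).uniq _ ((h.tq i).le h1) h2
    rw [mul_inv_eq_iff_eq_mul] at h3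
    exact h3
  · exact (h.comm i j hij _ ((h.tq i).le (h.tq i).mem) x ((h.tq j).le hx)).symm

theorem key (hl : LemR.{u, v, w} k) (h : E6F S t Q K) (hV : E6V ρ t Q) (hc : (Nat.card A : k) ≠ 0) {r : ℕ}
    (hr : r.Prime) (hr2 : r ≠ 2) {R : Subgroup A} (hR : R.Normal) (hRr : IsPGroup r R) {i j m n : Fin 4}
    (hij : i ≠ j) (him : i ≠ m) (hin : i ≠ n) (hprod : t i * t j * t m * t n = 1) :
    ∀ x ∈ R, x * t i = t i * x → x * t j = t j * x := by
  by_contra hcon
  push Not at hcon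
  obtain ⟨x0, hx0R, hx0i, hx0j⟩ := hcon
  have h2 := hV.two
  have tt : ∀ l, t l * t l = 1 := by
    intro l
    rw [← pow_two, ← (h.tq l).ord]
    exact pow_orderOf_eq_one _
  -- the elements of `C(t i)`
  have hmem : ∀ l, ∀ q ∈ Q l, q ∈ centralizer ({t i} : Set A) := fun l q hq =>
    mem_centralizer_singleton_iff.2 (tQ h i l hq)
  let T : Fin 4 → centralizer ({t i} : Set A) := fun l => ⟨t l, hmem l _ (h.tq l).mem⟩
  have TT : ∀ l, T l * T l = 1 := fun l => Subtype.ext (tt l)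
  -- quaternion elements
  have hex : ∀ l, ∃ a b : centralizer ({t i} : Set A), (a : A) ∈ Q l ∧ (b : A) ∈ Q l ∧ a * a = T l ∧ b * a * b⁻¹ = a⁻¹ := by
    intro l
    obtain ⟨a, ha, b, hb, h1, h3⟩ := exists_pair (h.tq l).isQ (fun x hx h4 => (h.tq l).uniq x ((h.tq l).le hx) h4)
    exact ⟨⟨a, hmem l a ha⟩, ⟨b, hmem l b hb⟩, ha, hb, Subtype.ext h1, Subtype.ext h3⟩
  choose a b haQ hbQ haa hbb using hex
  -- the representation on `[V, t i]`
  set σ := res ρ (t i) with hσ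
  have hinj : Function.Injective σ := by
    rw [injective_iff_map_eq_one]
    intro x hx
    apply Subtype.ext
    refine hV.faith i x (comm_of_mem x) fun v hv => ?_
    have h1 := congrArg (fun f => ((f ⟨v, hv⟩ : mv ρ (t i)) : V)) hx
    exact h1
  -- Lemma R
  set R2 : Subgroup (centralizer ({t i} : Set A)) := R.subgroupOf (centralizer ({t i} : Set A)) with hR2
  have hR2r : IsPGroup r R2 := by
    rw [hR2]
    exact hRr.comap_subtype
  have hR2c : (Nat.card R2 : k) ≠ 0 := by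
    intro h0
    apply hc
    have hd : Nat.card R2 ∣ Nat.card A := (card_subgroup_dvd_card R2).trans (card_subgroup_dvd_card _)
    obtain ⟨c, hc⟩ := hd
    rw [hc, Nat.cast_mul, h0, zero_mul]
  have hTj : orderOf (T j) = 2 := by
    rw [← orderOf_coe]
    exact (h.tq j).ord
  obtain ⟨Z0, hZ, hX, hdim⟩ := hl (mv ρ (t i)) (centralizer ({t i} : Set A)) σ hinj r hr hr2 R2 hR2r hR2c (T j) hTj
    (fun c _ x hx => by
      rw [hR2, mem_subgroupOf] at hx ⊢
      exact hR.conj_mem _ hx _) (a j) (haa j)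
    (fun v => Subtype.ext (hV.reg j (a j) (haQ j) (congrArg Subtype.val (haa j)) (v : V)))
    (fun hall => hx0j (by
      have h1 := hall ⟨x0, mem_centralizer_singleton_iff.2 hx0i⟩ (by rw [hR2, mem_subgroupOf]; exact hx0R)
      exact (congrArg Subtype.val h1).symm))
  set X := cm σ Z0 with hXdef
  -- invariance
  have hcomm : ∀ l l', ∀ q : centralizer ({t i} : Set A), (q : A) ∈ Q l → q * T l' = T l' * q := fun l l' q hq =>
    Subtype.ext (tQ h l' l hq)
  have hXinv : ∀ l, ∀ q : centralizer ({t i} : Set A), (q : A) ∈ Q l → ∀ v ∈ X, σ q v ∈ X := by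
    intro l q hq
    exact cm_inv σ (fun z hz => hZ q (hcomm l j q hq) z hz)
  have hTQ : ∀ l, ((T l : centralizer ({t i} : Set A)) : A) ∈ Q l := fun l => (h.tq l).mem
  -- `t i = -1`
  have hneg : ∀ v, σ (T i) v = -v := by
    intro v
    apply Subtype.ext
    exact (mem_mv ρ h2 (tt i)).1 v.2
  have hfx : ∀ l l', ∀ q : centralizer ({t i} : Set A), (q : A) ∈ Q l → ∀ v ∈ fx σ (T l'), σ q v ∈ fx σ (T l') := by
    intro l l' q hq v hv
    rw [mem_fx] at hv ⊢
    rw [← rho_mul, ← hcomm l l' q hq, rho_mul, hv]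
  have hmv : ∀ l l', ∀ q : centralizer ({t i} : Set A), (q : A) ∈ Q l → ∀ v ∈ mv σ (T l'), σ q v ∈ mv σ (T l') := by
    intro l l' q hq
    exact mv_inv σ (hcomm l l' q hq)
  have habc : ∀ l l', l ≠ l' → ∀ q q' : centralizer ({t i} : Set A), (q : A) ∈ Q l → (q' : A) ∈ Q l' →
      q * q' = q' * q := fun l l' hll q q' hq hq' =>
    Subtype.ext (h.comm l l' hll _ ((h.tq l).le hq) _ ((h.tq l').le hq'))
  -- divisibility
  have hdvd : ∀ l, i ≠ l → ∀ W : Submodule k (mv ρ (t i)), (∀ l', ∀ q : centralizer ({t i} : Set A), (q : A) ∈ Q l' →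
      ∀ v ∈ W, σ q v ∈ W) → (∀ v ∈ W, σ (T l) v = -v) → 4 ∣ finrank k W := by
    intro l hil W hW hn
    exact four_dvd_rep σ h2 (haa i) (hbb i) (haa l) (hbb l) (habc i l hil _ _ (haQ i) (haQ l))
      (habc i l hil _ _ (haQ i) (hbQ l)) W (hW i _ (haQ i)) (hW i _ (hbQ i)) (hW l _ (haQ l)) (hW l _ (hbQ l))
      (fun v _ => hneg v) hn
  have s1 := finrank_split σ h2 (TT j) X (hXinv j _ (hTQ j))
  have s2 := finrank_split σ h2 (TT m) (X ⊓ fx σ (T j)) (fun v hv =>
    ⟨hXinv m _ (hTQ m) v hv.1, hfx m j _ (hTQ m) v hv.2⟩)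
  have d1 : 4 ∣ finrank k ↥(X ⊓ mv σ (T j)) := hdvd j hij _
    (fun l' q hq v hv => ⟨hXinv l' q hq v hv.1, hmv l' j q hq v hv.2⟩) (fun v hv => (mem_mv σ h2 (TT j)).1 hv.2)
  have d2 : 4 ∣ finrank k ↥((X ⊓ fx σ (T j)) ⊓ mv σ (T m)) := hdvd m him _
    (fun l' q hq v hv => ⟨⟨hXinv l' q hq v hv.1.1, hfx l' j q hq v hv.1.2⟩, hmv l' m q hq v hv.2⟩)
    (fun v hv => (mem_mv σ h2 (TT m)).1 hv.2)
  have d3 : 4 ∣ finrank k ↥((X ⊓ fx σ (T j)) ⊓ fx σ (T m)) := hdvd n hin _
    (fun l' q hq v hv => ⟨⟨hXinv l' q hq v hv.1.1, hfx l' j q hq v hv.1.2⟩, hfx l' m q hq v hv.2⟩)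
    (fun v hv => by
      have e1 : T i * T j * T m * T n = 1 := Subtype.ext hprod
      have e2 : T n = T m * (T j * T i) := by
        have e3 : T n = (T i * T j * T m)⁻¹ := (eq_inv_of_mul_eq_one_right e1)
        rw [e3, mul_inv_rev, mul_inv_rev, inv_eq_of_mul_eq_one_right (TT m), inv_eq_of_mul_eq_one_right (TT j),
          inv_eq_of_mul_eq_one_right (TT i)]
      rw [e2, rho_mul, rho_mul, hneg, map_neg, map_neg, (mem_fx σ).1 hv.1.2, (mem_fx σ).1 hv.2])
  have d4 : finrank k ↥(X ⊓ mv σ (T j)) ≤ 4 := by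
    rw [← hV.four i j hij]
    have e1 : (X ⊓ mv σ (T j)).map (mv ρ (t i)).subtype ≤ mv ρ (t i) ⊓ mv ρ (t j) := by
      rintro _ ⟨v, hv, rfl⟩
      refine ⟨v.2, (mem_mv ρ h2 (tt j)).2 ?_⟩
      have := (mem_mv σ h2 (TT j)).1 hv.2
      exact congrArg Subtype.val this
    have e2 := Submodule.finrank_mono e1
    rwa [← (Submodule.equivMapOfInjective (mv ρ (t i)).subtype (Submodule.subtype_injective _) _).finrank_eq] at e2
  have d5 : 0 < finrank k X := by
    rw [Nat.pos_iff_ne_zero]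
    intro h0
    exact hX (Submodule.finrank_eq_zero.1 h0)
  omega

/-- **E1, from Lemma R** -/
theorem odd_comm_of (hl : LemR.{u, v, w} k) (h : E6F S t Q K) (hV : E6V ρ t Q) (hc : (Nat.card A : k) ≠ 0) {r : ℕ}
    (hr : r.Prime) (hr2 : r ≠ 2) {R : Subgroup A} (hR : R.Normal) (hRr : IsPGroup r R) :
    ∀ x ∈ R, t 0 * t 1 * x = x * (t 0 * t 1) := by
  have tc : ∀ i j, t i * t j = t j * t i := fun i j => tQ h j i (h.tq i).mem
  have tt : ∀ l, t l * t l = 1 := by
    intro l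
    rw [← pow_two, ← (h.tq l).ord]
    exact pow_orderOf_eq_one _
  have p01 : t 0 * t 1 * t 2 * t 3 = 1 := h.prod
  have p10 : t 1 * t 0 * t 2 * t 3 = 1 := by rw [tc 1 0]; exact p01
  have k01 := key hl h hV hc hr hr2 hR hRr (i := 0) (j := 1) (m := 2) (n := 3) (by decide) (by decide) (by decide) p01
  have k10 := key hl h hV hc hr hr2 hR hRr (i := 1) (j := 0) (m := 2) (n := 3) (by decide) (by decide) (by decide) p10
  have hodd : Odd (Nat.card R) := by
    have : Fact r.Prime := ⟨hr⟩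
    obtain ⟨e, he⟩ := IsPGroup.iff_card.1 hRr
    rw [he]
    exact (hr.odd_of_ne_two hr2).pow
  have h1 : R ≤ centralizer ({t 0 * t 1} : Set A) := by
    refine Cfsg.Agent.Lib.KleinGen.le_of_klein R _ hodd (t 0) (t 1) (tt 0) (tt 1) (tc 0 1)
      (fun x hx => hR.conj_mem x hx _) (fun x hx => hR.conj_mem x hx _) ?_ ?_ inf_le_right
    · rintro x ⟨hx, hx0⟩
      have e0 : x * t 0 = t 0 * x := mem_centralizer_singleton_iff.1 hx0
      have e1 := k01 x hx e0
      refine mem_centralizer_singleton_iff.2 ?_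
      rw [← mul_assoc, e0, mul_assoc, e1, mul_assoc]
    · rintro x ⟨hx, hx1⟩
      have e1 : x * t 1 = t 1 * x := mem_centralizer_singleton_iff.1 hx1
      have e0 := k10 x hx e1
      refine mem_centralizer_singleton_iff.2 ?_
      rw [← mul_assoc, e0, mul_assoc, e1, mul_assoc]
  intro x hx
  exact (mem_centralizer_singleton_iff.1 (h1 hx)).symm

end main

end Cfsg.Agent.H809.Hall
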