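import Cfsg.Agent.H125.Hall.Defs

/-!
# Commuting quaternion groups in a module (S2223, helper809)

* `half` : `a² = -1`, `b` injective, `a b = - b a`: the dimension is even;
* `four_dvd` : two commuting pairs: the dimension is divisible by 4;
* `finrank_split` : the eigenspaces of an involution on an invariant subspace;
* `four_dvd_rep` : the same for elements of a group;
* `exists_pair` : the elements of a generalized quaternion group.
-/

set_option autoImplicit false

namespace Cfsg.Agent.H809.Hall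

open Subgroup Cfsg.Agent.Cit Cfsg.Agent.H125.Hall Module

section LA

variable {k : Type*} [Field k] {W : Type*} [AddCommGroup W] [Module k W] [FiniteDimensional k W]

theorem half {i : k} (h2 : (2 : k) ≠ 0) (hi : i * i = -1) (a b : W →ₗ[k] W) (ha : ∀ w, a (a w) = -w)
    (hb : Function.Injective b) (hab : ∀ w, a (b w) = -(b (a w))) :
    finrank k W = 2 * finrank k (LinearMap.ker (a - i • (1 : W →ₗ[k] W))) := by
  set P := LinearMap.ker (a - i • (1 : W →ₗ[k] W)) with hP
  set N := LinearMap.ker (a + i • (1 : W →ₗ[k] W)) with hN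
  have memP : ∀ w, w ∈ P ↔ a w = i • w := by
    intro w
    rw [hP, LinearMap.mem_ker, LinearMap.sub_apply, LinearMap.smul_apply, Module.End.one_apply, sub_eq_zero]
  have memN : ∀ w, w ∈ N ↔ a w = -(i • w) := by
    intro w
    rw [hN, LinearMap.mem_ker, LinearMap.add_apply, LinearMap.smul_apply, Module.End.one_apply, add_eq_zero_iff_eq_neg]
  have hi0 : i ≠ 0 := by
    rintro rfl
    rw [zero_mul] at hi
    exact one_ne_zero (neg_eq_zero.1 hi.symm)
  have h2i : (2 * i) ≠ 0 := mul_ne_zero h2 hi0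
  have hcompl : IsCompl P N := by
    constructor
    · rw [Submodule.disjoint_def]
      intro w h1 h3
      rw [memP] at h1
      rw [memN, h1] at h3
      have h4 : (2 * i) • w = 0 := by
        rw [two_mul, add_smul]
        nth_rewrite 1 [h3]
        exact neg_add_cancel _
      exact (smul_eq_zero.1 h4).resolve_left h2i
    · rw [codisjoint_iff, eq_top_iff]
      rintro w -
      rw [Submodule.mem_sup]
      refine ⟨(2 * i)⁻¹ • (a w + i • w), ?_, -((2 * i)⁻¹ • (a w - i • w)), ?_, ?_⟩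
      · rw [memP, map_smul, map_add, ha, map_smul, smul_comm i, smul_add i, smul_smul i i, hi, neg_one_smul]
        congr 1
        abel
      · rw [memN, map_neg, map_smul, map_sub, ha, map_smul, smul_neg i, neg_neg, smul_comm i, smul_sub i, smul_smul i i, hi, neg_one_smul,
          ← smul_neg]
        congr 1
        abel
      · rw [← sub_eq_add_neg, ← smul_sub]
        have h5 : a w + i • w - (a w - i • w) = (2 * i) • w := by
          rw [two_mul, add_smul]
          abel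
        rw [h5, smul_smul, inv_mul_cancel₀ h2i, one_smul]
  have e1 : finrank k P + finrank k N = finrank k W := Submodule.finrank_add_eq_of_isCompl hcompl
  have bPN : ∀ w ∈ P, b w ∈ N := by
    intro w hw
    rw [memP] at hw
    rw [memN, hab, hw, map_smul]
  have bNP : ∀ w ∈ N, b w ∈ P := by
    intro w hw
    rw [memN] at hw
    rw [memP, hab, hw, map_neg, map_smul, neg_neg]
  have e2 : finrank k P ≤ finrank k N := by
    refine LinearMap.finrank_le_finrank_of_injective (f := b.restrict bPN) ?_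
    intro x y hxy
    apply Subtype.ext
    exact hb (congrArg Subtype.val hxy)
  have e3 : finrank k N ≤ finrank k P := by
    refine LinearMap.finrank_le_finrank_of_injective (f := b.restrict bNP) ?_
    intro x y hxy
    apply Subtype.ext
    exact hb (congrArg Subtype.val hxy)
  omega

theorem exists_i [IsAlgClosed k] : ∃ i : k, i * i = -1 := by
  obtain ⟨i, hi⟩ := IsAlgClosed.exists_pow_nat_eq (-1 : k) (n := 2) (by norm_num)
  exact ⟨i, by rw [← pow_two, hi]⟩

theorem four_dvd [IsAlgClosed k] (h2 : (2 : k) ≠ 0) (a b c d : W →ₗ[k] W) (ha : ∀ w, a (a w) = -w)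
    (hb : Function.Injective b) (hab : ∀ w, a (b w) = -(b (a w))) (hc : ∀ w, c (c w) = -w)
    (hd : Function.Injective d) (hcd : ∀ w, c (d w) = -(d (c w))) (hac : ∀ w, a (c w) = c (a w))
    (had : ∀ w, a (d w) = d (a w)) : 4 ∣ finrank k W := by
  obtain ⟨i, hi⟩ := exists_i (k := k)
  have h1 := half h2 hi a b ha hb hab
  set P := LinearMap.ker (a - i • (1 : W →ₗ[k] W)) with hP
  have memP : ∀ w, w ∈ P ↔ a w = i • w := by
    intro w
    rw [hP, LinearMap.mem_ker, LinearMap.sub_apply, LinearMap.smul_apply, Module.End.one_apply, sub_eq_zero]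
  have cP : ∀ w ∈ P, c w ∈ P := by
    intro w hw
    rw [memP] at hw ⊢
    rw [hac, hw, map_smul]
  have dP : ∀ w ∈ P, d w ∈ P := by
    intro w hw
    rw [memP] at hw ⊢
    rw [had, hw, map_smul]
  have h3 := half (W := P) h2 hi (c.restrict cP) (d.restrict dP) (fun w => Subtype.ext (hc w))
    (fun x y hxy => Subtype.ext (hd (congrArg Subtype.val hxy))) (fun w => Subtype.ext (hcd w))
  rw [h1, h3]
  omega

end LA

section Rep

variable {k : Type*} [Field k] {V : Type*} [AddCommGroup V] [Module k V] {A : Type*} [Group A]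
  (ρ : A →* (V →ₗ[k] V))

/-- the fixed points of `t` -/
def fx (t : A) : Submodule k V := LinearMap.ker (ρ t - 1)

theorem mem_fx {t : A} {v : V} : v ∈ fx ρ t ↔ ρ t v = v := by
  rw [fx, LinearMap.mem_ker, LinearMap.sub_apply, Module.End.one_apply, sub_eq_zero]

theorem rho_mul (x y : A) (v : V) : ρ (x * y) v = ρ x (ρ y v) := by
  rw [map_mul, Module.End.mul_apply]

theorem rho_one (v : V) : ρ 1 v = v := by
  rw [map_one, Module.End.one_apply]

theorem rho_inj (x : A) : Function.Injective (ρ x) := by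
  intro v w h
  rw [← rho_one ρ v, ← rho_one ρ w, ← inv_mul_cancel x, rho_mul, rho_mul, h]

theorem mem_mv (h2 : (2 : k) ≠ 0) {t : A} (ht : t * t = 1) {v : V} : v ∈ mv ρ t ↔ ρ t v = -v := by
  constructor
  · rintro ⟨w, rfl⟩
    rw [LinearMap.sub_apply, Module.End.one_apply, map_sub, ← rho_mul, ht, rho_one, neg_sub]
  · intro h
    refine ⟨-((2 : k)⁻¹ • v), ?_⟩
    rw [LinearMap.sub_apply, Module.End.one_apply, map_neg, map_smul, h, smul_neg, neg_neg, sub_neg_eq_add, ← two_smul k,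
      smul_smul, mul_inv_cancel₀ h2, one_smul]

theorem finrank_split [FiniteDimensional k V] (h2 : (2 : k) ≠ 0) {t : A} (ht : t * t = 1) (W : Submodule k V)
    (hW : ∀ v ∈ W, ρ t v ∈ W) :
    finrank k W = finrank k ↥(W ⊓ fx ρ t) + finrank k ↥(W ⊓ mv ρ t) := by
  have e1 := Submodule.finrank_sup_add_finrank_inf_eq (W ⊓ fx ρ t) (W ⊓ mv ρ t)
  have e2 : (W ⊓ fx ρ t) ⊓ (W ⊓ mv ρ t) = ⊥ := by
    rw [eq_bot_iff]
    intro v hv
    have h3 := mem_fx ρ |>.1 hv.1.2
    have h4 := (mem_mv ρ h2 ht).1 hv.2.2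
    rw [h3] at h4
    have h5 : (2 : k) • v = 0 := by
      rw [two_smul]
      nth_rewrite 1 [h4]
      exact neg_add_cancel _
    exact (smul_eq_zero.1 h5).resolve_left h2
  have e3 : (W ⊓ fx ρ t) ⊔ (W ⊓ mv ρ t) = W := by
    apply le_antisymm (sup_le inf_le_left inf_le_left)
    intro v hv
    rw [Submodule.mem_sup]
    have h6 : ρ t (ρ t v) = v := by rw [← rho_mul, ht, rho_one]
    refine ⟨(2 : k)⁻¹ • (v + ρ t v), ⟨W.smul_mem _ (W.add_mem hv (hW v hv)), ?_⟩, (2 : k)⁻¹ • (v - ρ t v),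
      ⟨W.smul_mem _ (W.sub_mem hv (hW v hv)), ?_⟩, ?_⟩
    · refine (mem_fx ρ).2 ?_
      rw [map_smul, map_add, h6, add_comm]
    · refine (mem_mv ρ h2 ht).2 ?_
      rw [map_smul, map_sub, h6, ← smul_neg, neg_sub]
    · rw [← smul_add]
      have h7 : v + ρ t v + (v - ρ t v) = (2 : k) • v := by
        rw [two_smul]
        abel
      rw [h7, smul_smul, inv_mul_cancel₀ h2, one_smul]
  rw [e2, e3, finrank_bot, add_zero] at e1
  exact e1

theorem four_dvd_rep [IsAlgClosed k] [FiniteDimensional k V] (h2 : (2 : k) ≠ 0) {a b c d t s : A} (ha : a * a = t)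
    (hab : b * a * b⁻¹ = a⁻¹) (hc : c * c = s) (hcd : d * c * d⁻¹ = c⁻¹) (hac : a * c = c * a) (had : a * d = d * a)
    (W : Submodule k V) (Wa : ∀ v ∈ W, ρ a v ∈ W) (Wb : ∀ v ∈ W, ρ b v ∈ W) (Wc : ∀ v ∈ W, ρ c v ∈ W)
    (Wd : ∀ v ∈ W, ρ d v ∈ W) (ht : ∀ v ∈ W, ρ t v = -v) (hs : ∀ v ∈ W, ρ s v = -v) : 4 ∣ finrank k W := by
  have key : ∀ {a b t : A} (_ : a * a = t) (_ : b * a * b⁻¹ = a⁻¹) (_ : ∀ v ∈ W, ρ a v ∈ W) (_ : ∀ v ∈ W, ρ b v ∈ W)
      (_ : ∀ v ∈ W, ρ t v = -v), ∀ v ∈ W, ρ a (ρ b v) = -(ρ b (ρ a v)) := by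
    intro a b t ha hab Wa Wb ht v hv
    -- b a = a⁻¹ b
    have h1 : a * (b * a) = b := by
      have : b * a = a⁻¹ * b := by rw [← hab]; group
      rw [this]; group
    have h3 : ρ a (ρ b (ρ a v)) = ρ b v := by rw [← rho_mul, ← rho_mul, mul_assoc, h1]
    have h4 : ρ a (ρ a (ρ b (ρ a v))) = -(ρ b (ρ a v)) := by
      rw [← rho_mul, ha, ht _ (Wb _ (Wa v hv))]
    rw [h3] at h4
    exact h4
  refine four_dvd (W := W) h2 ((ρ a).restrict Wa) ((ρ b).restrict Wb) ((ρ c).restrict Wc) ((ρ d).restrict Wd)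
    (fun w => Subtype.ext ?_) (fun x y hxy => Subtype.ext (rho_inj ρ b (congrArg Subtype.val hxy)))
    (fun w => Subtype.ext (key ha hab Wa Wb ht w w.2)) (fun w => Subtype.ext ?_)
    (fun x y hxy => Subtype.ext (rho_inj ρ d (congrArg Subtype.val hxy)))
    (fun w => Subtype.ext (key hc hcd Wc Wd hs w w.2)) (fun w => Subtype.ext ?_) (fun w => Subtype.ext ?_)
  · show ρ a (ρ a (w : V)) = -(w : V)
    rw [← rho_mul, ha, ht _ w.2]
  · show ρ c (ρ c (w : V)) = -(w : V)
    rw [← rho_mul, hc, hs _ w.2]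
  · show ρ a (ρ c (w : V)) = ρ c (ρ a (w : V))
    rw [← rho_mul, ← rho_mul, hac]
  · show ρ a (ρ d (w : V)) = ρ d (ρ a (w : V))
    rw [← rho_mul, ← rho_mul, had]

theorem cm_inv {Z : Subgroup A} {q : A} (hq : ∀ z ∈ Z, q * z * q⁻¹ ∈ Z) : ∀ v ∈ cm ρ Z, ρ q v ∈ cm ρ Z := by
  have h1 : (cm ρ Z).map (ρ q) ≤ cm ρ Z := by
    rw [cm, Submodule.map_iSup]
    refine iSup_le fun x => ?_
    rw [Submodule.map_iSup]
    refine iSup_le fun hx => ?_
    rintro _ ⟨_, ⟨v, rfl⟩, rfl⟩
    have h3 : mv ρ (q * x * q⁻¹) ≤ cm ρ Z := le_iSup₂_of_le (q * x * q⁻¹) (hq x hx) le_rfl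
    apply h3
    refine ⟨ρ q v, ?_⟩
    rw [LinearMap.sub_apply, Module.End.one_apply, LinearMap.sub_apply, Module.End.one_apply, map_sub, ← rho_mul, ← rho_mul]
    congr 2
    group
  intro v hv
  exact h1 ⟨v, hv, rfl⟩

end Rep

/-- elements of a generalized quaternion group -/
theorem exists_pair {A : Type*} [Group A] [Finite A] {Q : Subgroup A} (hQ : AutQuat.IsQ Q) {t : A}
    (ht : ∀ x ∈ Q, orderOf x = 2 → x = t) : ∃ a ∈ Q, ∃ b ∈ Q, a * a = t ∧ b * a * b⁻¹ = a⁻¹ := by
  obtain ⟨a, ha, h4⟩ := hQ.exists_four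
  obtain ⟨b, hb, hab⟩ := hQ.exists_inverts a ha
  refine ⟨a, ha, b, hb, ?_, hab⟩
  apply ht _ (mul_mem ha ha)
  rw [← pow_two, orderOf_pow, h4]
  norm_num

end Cfsg.Agent.H809.Hall
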